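import Cfsg.Agent.H926.QS.O73Wit
import Cfsg.Agent.H235.QS.O7L

/-!
# S2491, S2492: the row `PΩ₇(3)` (helper926, class list by helper235)
-/

set_option autoImplicit false
set_option maxRecDepth 100000

namespace Cfsg.Agent.H926.QS.O73Row

open Cfsg Cfsg.Agent.H6.QO
open Cfsg.Agent.Fischer.Derived Cfsg.Agent.Fischer.Y322
open Cfsg.Agent.H926.QS.O73Wit
open Cfsg.Agent.H235.QS

theorem cov : (O7L.xs.all fun X => reps.any fun Y => decide (X = Y.map Fin.val)) = true := by decide +kernel

/-- **Every element of every perfect central extension of `H8` is a commutator.** -/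
theorem rowA_H8 : RowA H8 := by
  refine row_of_classes fun g => ?_
  rcases O7L.cover g with rfl | ⟨X, hX, α, hα⟩
  · refine ⟨[], ?_, MulEquiv.refl _, ?_⟩
    · unfold reps
      exact List.mem_append_right _ (by simp)
    · rw [ev_nil]
      exact IsConj.refl _
  · have h1 := List.all_eq_true.1 cov X hX
    rw [List.any_eq_true] at h1
    obtain ⟨Y, hY, h2⟩ := h1
    refine ⟨Y, hY, α, ?_⟩
    rw [hα, of_decide_eq_true h2, O7L.el_val]

/-- **The row `PΩ₇(3)`** -/
theorem rowA_O73 {F : Type*} [Field F] [Fintype F] (hF : Fintype.card F = 3) :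
    RowA (Cfsg.POmega F (Cfsg.quadFormOdd 3 F)) :=
  O73Fus.row_pomega rowA_H8 hF

end Cfsg.Agent.H926.QS.O73Row
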